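import Mathlib
import Cfsg.Agent.Nodes.NormalForm
import Cfsg.Agent.Tits.OppRes

/-!
# Involutions of groups with root group data in characteristic 2 (helper378)

`R : RGD cs h 2 T n X`, `L = GG`, `d ∈ Y` normalising `T` and all root groups (`Gp 1 d`), `a ∈ L d`, `a² = 1`: `a` is conjugate
under `L` to an element `m` with `Gp w m` (it permutes the root groups as `w`), `w² = 1` and for every fundamental root
`α` : `w α = α` or `w α < 0`.
-/

set_option autoImplicit false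
set_option linter.unusedSectionVars false

namespace Cfsg.Agent.H378.InvN

open CoxeterSystem Cfsg.Agent.ChevalleyStructure.CoxeterGeom Cfsg.Agent.Tits.Roots Cfsg.Agent.Tits.Core
  Cfsg.Agent.Tits.Exchange Cfsg.Agent.Nodes.Reps Cfsg.Agent.Nodes.BNOf Cfsg.Agent.Nodes.StabComb
  Cfsg.Agent.Nodes.Bruhat Cfsg.Agent.Nodes.OppDec Cfsg.Agent.Nodes.LeviDec

variable {I W Y : Type*} [Fintype I] [DecidableEq I] [Group W] [Group Y] {M : CoxeterMatrix I}
  {cs : CoxeterSystem M W} {A : I → I → ℤ} {h : IsCartan M A} {p : ℕ} {T : Subgroup Y} {n : I → Y}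
  {X : (I → ℤ) → Subgroup Y}

/-- `m` normalises `T` and permutes the root groups as `w` -/
def Gp (cs : CoxeterSystem M W) (h : IsCartan M A) (T : Subgroup Y) (X : (I → ℤ) → Subgroup Y) (w : W) (m : Y) :
    Prop := cj m T = T ∧ ∀ x, IsRoot cs h x → cj m (X x) = X (rep cs h w x)

theorem Gp.mul {v w : W} {a b : Y} (ha : Gp cs h T X v a) (hb : Gp cs h T X w b) : Gp cs h T X (v * w) (a * b) := by
  refine ⟨by rw [cj_mul, hb.1, ha.1], fun x hx => ?_⟩
  rw [cj_mul, hb.2 x hx, ha.2 _ (hx.act w), ← rep_mul_apply]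

theorem Gp.inv {w : W} {a : Y} (ha : Gp cs h T X w a) : Gp cs h T X w⁻¹ a⁻¹ := by
  refine ⟨?_, fun x hx => ?_⟩
  · have h1 := cj_inv_cj a T
    rwa [ha.1] at h1
  · have h1 := ha.2 (rep cs h w⁻¹ x) (hx.act _)
    rw [← rep_mul_apply, mul_inv_cancel, map_one, Module.End.one_apply] at h1
    rw [← h1, cj_inv_cj]

theorem Gp.cj_Sup {w : W} {m : Y} (hm : Gp cs h T X w m) {S S' : Set (I → ℤ)} (hS : ∀ x ∈ S, IsRoot cs h x)
    (hSS : ∀ x ∈ S, rep cs h w x ∈ S') {a : Y} (ha : a ∈ RGD.Sup X S) : m * a * m⁻¹ ∈ RGD.Sup X S' := by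
  have h1 : cj m (RGD.Sup X S) ≤ RGD.Sup X S' := by
    rw [RGD.cj_Sup]
    refine iSup_le fun z => ?_
    rw [hm.2 z.1 (hS z.1 z.2)]
    exact RGD.le_Sup (hSS z.1 z.2)
  exact h1 (conj_mem_cj.2 ha)

theorem Gp.conj_T {w : W} {m : Y} (hm : Gp cs h T X w m) {t : Y} (ht : t ∈ T) : m * t * m⁻¹ ∈ T := by
  have := conj_mem_cj (g := m) |>.2 ht
  rwa [hm.1] at this

theorem Gp.conj_U {d : Y} (hd : Gp cs h T X 1 d) {S : Set (I → ℤ)} (hS : ∀ x ∈ S, IsRoot cs h x) {u : Y}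
    (hu : u ∈ RGD.Sup X S) : d * u * d⁻¹ ∈ RGD.Sup X S :=
  hd.cj_Sup hS (fun x hx => by rw [map_one, Module.End.one_apply]; exact hx) hu

theorem Gp.conj_B {d : Y} (hd : Gp cs h T X 1 d) {b : Y} (hb : b ∈ RGD.B cs h T X) : d * b * d⁻¹ ∈ RGD.B cs h T X := by
  have h1 : cj d (RGD.B cs h T X) ≤ RGD.B cs h T X := by
    unfold RGD.B
    rw [cj_sup, hd.1, RGD.cj_Sup]
    refine sup_le le_sup_left (iSup_le fun z => ?_)
    rw [hd.2 z.1 z.2.1, map_one, Module.End.one_apply]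
    exact le_trans (RGD.le_Sup z.2) le_sup_right
  exact h1 (conj_mem_cj.2 hb)

theorem Gp.conj_BN {d : Y} (hd : Gp cs h T X 1 d) {b : Y} (hb : b ∈ BN cs h T X) : d * b * d⁻¹ ∈ BN cs h T X := by
  have h1 : cj d (BN cs h T X) ≤ BN cs h T X := by
    unfold BN UN
    rw [cj_sup, hd.1, RGD.cj_Sup]
    refine sup_le le_sup_left (iSup_le fun z => ?_)
    rw [hd.2 z.1 z.2.1, map_one, Module.End.one_apply]
    exact le_trans (RGD.le_Sup z.2) le_sup_right
  exact h1 (conj_mem_cj.2 hb)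

theorem Gp.conj_GG {w : W} {m : Y} (hm : Gp cs h T X w m) {g : Y} (hg : g ∈ GG cs h T X) :
    m * g * m⁻¹ ∈ GG cs h T X := by
  have h1 : cj m (GG cs h T X) ≤ GG cs h T X := by
    unfold GG
    rw [cj_sup, hm.1, RGD.cj_Sup]
    refine sup_le le_sup_left (iSup_le fun z => ?_)
    rw [hm.2 z.1 z.2]
    exact le_trans (RGD.le_Sup (S := {x | IsRoot cs h x}) (z.2.act w)) le_sup_right
  exact h1 (conj_mem_cj.2 hg)

theorem gp_of_rp (R : RGD cs h p T n X) {w : W} {m : Y} (hm : Rp cs R.nsys w m) : Gp cs h T X w m :=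
  ⟨mem_normalizer_iff_cj.1 hm.mem_normalizer, fun _ hx => R.conj_rp hm hx⟩

variable (R : RGD cs h p T n X)

include R

/-- an element of `L` normalising `T` and all root groups is in `B` -/
theorem Gp.mem_B [Finite W] {d : Y} (hd : Gp cs h T X 1 d) (hdG : d ∈ GG cs h T X) : d ∈ RGD.B cs h T X := by
  obtain ⟨w, b₁, hb₁, k, hk, b₂, hb₂, e⟩ := (mem_GG R).1 hdG
  have key : ∀ x : Y, x ∈ RGD.B cs h T X → k * x * k⁻¹ ∈ RGD.B cs h T X := by
    intro x hx
    have h1 := hd.conj_B (mul_mem (mul_mem (inv_mem hb₂) hx) hb₂)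
    have h2 := mul_mem (mul_mem (inv_mem hb₁) h1) hb₁
    have e2 : b₁⁻¹ * (d * (b₂⁻¹ * x * b₂) * d⁻¹) * b₁ = k * x * k⁻¹ := by rw [e]; group
    rwa [e2] at h2
  have hw : w = 1 := by
    by_contra hw1
    obtain ⟨i, hi⟩ := cs.exists_rightDescent_of_ne_one hw1
    have hi' : cs.length (w * cs.simple i) < cs.length w := hi
    have hneg : rep cs h w (sr i) ≤ 0 := nonpos_of_lt cs h w i hi'
    obtain ⟨u, hu, hu1⟩ := exists_ne_one R i
    have h1 := key u (RGD.X_le_B (isRoot_sr cs h i) (sr_nonneg i) hu)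
    have h2 : k * u * k⁻¹ ∈ X (rep cs h w (sr i)) := R.conj_mem hk (isRoot_sr cs h i) hu
    have h3 := eq_one_of_mem_UN_of_mem_B R (X_le_UN ((isRoot_sr cs h i).act w) hneg h2) h1
    refine hu1 ?_
    have h4 : u = k⁻¹ * (k * u * k⁻¹) * k := by group
    rw [h4, h3]; group
  have hkT : k ∈ T := by
    rw [hw] at hk
    exact hk.mem_of_one
  rw [e]
  exact mul_mem (mul_mem hb₁ (RGD.T_le_B hkT)) hb₂

/-- an element of `L` normalising `T` and all root groups is in `T` -/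
theorem Gp.mem_T [Finite W] {d : Y} (hd : Gp cs h T X 1 d) (hdG : d ∈ GG cs h T X) : d ∈ T := by
  obtain ⟨t, ht, u, hu, rfl⟩ := R.mem_B.1 (hd.mem_B R hdG)
  have hu2 : Gp cs h T X 1 u := by
    have h1 := (gp_of_rp R (rp_of_mem (cs := cs) (hN := R.nsys) ht)).inv.mul hd
    rwa [inv_one, one_mul, inv_mul_cancel_left] at h1
  obtain ⟨k₀, hk₀⟩ := exists_rp cs R.nsys (w0 cs)
  have hconj : Gp cs h T X 1 (k₀⁻¹ * u * k₀) := by
    have h2 := ((gp_of_rp R hk₀).inv.mul hu2).mul (gp_of_rp R hk₀)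
    rwa [mul_one, inv_mul_cancel] at h2
  have hkB : k₀⁻¹ * u * k₀ ∈ RGD.B cs h T X :=
    hconj.mem_B R (mul_mem (mul_mem (inv_mem (NN_le_GG R ⟨_, hk₀⟩)) (B_le_GG (RGD.U_le_B hu)))
      (NN_le_GG R ⟨_, hk₀⟩))
  have h2 := mem_PW_of_conj R hk₀ hu hkB
  rw [w0_inv, PW_w0, Sup_empty, Subgroup.mem_bot] at h2
  rw [h2, mul_one]
  exact ht

/-- representatives of `w` in `L` -/
theorem Gp.rp [Finite W] {w : W} {m : Y} (hm : Gp cs h T X w m) (hmG : m ∈ GG cs h T X) : Rp cs R.nsys w m := by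
  obtain ⟨k, hk⟩ := exists_rp cs R.nsys w
  have h1 := (gp_of_rp R hk).inv.mul hm
  rw [inv_mul_cancel] at h1
  have h2 := h1.mem_T R (mul_mem (inv_mem (NN_le_GG R ⟨_, hk⟩)) hmG)
  have h3 := hk.mul_mem_right h2
  rwa [mul_inv_cancel_left] at h3

omit R in
/-- `c ∈ B m B` with `m` permuting the root groups as `w` -/
def GC (cs : CoxeterSystem M W) (h : IsCartan M A) (T : Subgroup Y) (X : (I → ℤ) → Subgroup Y) (w : W) (c : Y) :
    Prop := ∃ b₁ ∈ RGD.B cs h T X, ∃ m, Gp cs h T X w m ∧ ∃ b₂ ∈ RGD.B cs h T X, c = b₁ * m * b₂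

omit R in
theorem GC.inv {w : W} {c : Y} (hc : GC cs h T X w c) : GC cs h T X w⁻¹ c⁻¹ := by
  obtain ⟨b₁, h1, m, hm, b₂, h2, rfl⟩ := hc
  exact ⟨b₂⁻¹, inv_mem h2, m⁻¹, hm.inv, b₁⁻¹, inv_mem h1, by group⟩

theorem GC.split [Finite W] {w : W} {c : Y} (hc : GC cs h T X w c) :
    ∃ d, Gp cs h T X 1 d ∧ Cell R.nsys cs h X w (c * d⁻¹) := by
  obtain ⟨b₁, h1, m, hm, b₂, h2, rfl⟩ := hc
  obtain ⟨k, hk⟩ := exists_rp cs R.nsys w
  have hd := (gp_of_rp R hk).inv.mul hm
  rw [inv_mul_cancel] at hd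
  refine ⟨k⁻¹ * m, hd, b₁, h1, k, hk, k⁻¹ * m * b₂ * (k⁻¹ * m)⁻¹, hd.conj_B h2, by group⟩

theorem GC.of_cell [Finite W] {w : W} {c d : Y} (hd : Gp cs h T X 1 d) (hc : Cell R.nsys cs h X w c) :
    GC cs h T X w (c * d) := by
  obtain ⟨b₁, h1, k, hk, b₂, h2, rfl⟩ := hc
  have h3 := (gp_of_rp R hk).mul hd
  rw [mul_one] at h3
  have h4 : Gp cs h T X 1 d⁻¹ := by
    have := hd.inv
    rwa [inv_one] at this
  have h5 := h4.conj_B h2
  exact ⟨b₁, h1, k * d, h3, d⁻¹ * b₂ * d⁻¹⁻¹, h5, by group⟩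

theorem GC.unique [Finite W] {v w : W} {c : Y} (hv : GC cs h T X v c) (hw : GC cs h T X w c) : v = w := by
  obtain ⟨d, hd, h1⟩ := hv.split R
  obtain ⟨e, he, h2⟩ := hw.split R
  have h3 : Gp cs h T X 1 (d * e⁻¹) := by
    have := hd.mul he.inv
    rwa [inv_one, mul_one] at this
  have hG1 : c * d⁻¹ ∈ GG cs h T X := (mem_GG R).2 ⟨_, h1⟩
  have hG2 : c * e⁻¹ ∈ GG cs h T X := (mem_GG R).2 ⟨_, h2⟩
  have h4 : d * e⁻¹ ∈ GG cs h T X := by
    have := mul_mem (inv_mem hG1) hG2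
    have e3 : (c * d⁻¹)⁻¹ * (c * e⁻¹) = d * e⁻¹ := by group
    rwa [e3] at this
  have h5 := h1.mul_right (h3.mem_B R h4)
  have e6 : c * d⁻¹ * (d * e⁻¹) = c * e⁻¹ := by group
  rw [e6] at h5
  exact Cell.unique R h5 h2

/-- conjugation by `n i` if the length increases twice -/
theorem GC.conj_n [Finite W] {w : W} {c : Y} (hc : GC cs h T X w c) {i : I}
    (hl : cs.length (cs.simple i * w * cs.simple i) = cs.length w + 2) :
    GC cs h T X (cs.simple i * w * cs.simple i) (n i * c * (n i)⁻¹) := by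
  obtain ⟨d, hd, h1⟩ := hc.split R
  have hni := rp_simple cs R.nsys i
  have h2 : Gp cs h T X (cs.simple i) (d * (n i)⁻¹ * d⁻¹) := by
    have := (hd.mul (gp_of_rp R hni).inv).mul hd.inv
    rwa [inv_one, mul_one, one_mul, inv_simple] at this
  have h3 : d * (n i)⁻¹ * d⁻¹ ∈ GG cs h T X := hd.conj_GG (inv_mem (NN_le_GG R ⟨_, hni⟩))
  have h4 := h2.rp R h3
  have hl1 := cs.length_mul_le (cs.simple i) w
  have hl2 := cs.length_mul_le (cs.simple i * w) (cs.simple i)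
  rw [cs.length_simple] at hl1 hl2
  have h5 : Cell R.nsys cs h X (cs.simple i * w) (n i * (c * d⁻¹)) :=
    Cell.mul_of_length R (by rw [cs.length_simple]; omega) (cell_of_rp hni) h1
  have h6 : Cell R.nsys cs h X (cs.simple i * w * cs.simple i) (n i * (c * d⁻¹) * (d * (n i)⁻¹ * d⁻¹)) :=
    Cell.mul_of_length R (by rw [cs.length_simple]; omega) h5 (cell_of_rp h4)
  have h7 := GC.of_cell R hd h6
  have e : n i * (c * d⁻¹) * (d * (n i)⁻¹ * d⁻¹) * d = n i * c * (n i)⁻¹ := by group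
  rwa [e] at h7

omit R in
/-- a vector supported on `J` is fixed -/
theorem rep_fix {w : W} {J : Set I} (hJ : ∀ i ∈ J, rep cs h w (sr i) = sr i) {x : I → ℤ} (hx : ∀ k, k ∉ J → x k = 0) :
    rep cs h w x = x := by
  have h1 : x = ∑ i, x i • (sr i : I → ℤ) := by
    ext k
    rw [Finset.sum_apply, Finset.sum_eq_single k]
    · rw [Pi.smul_apply, sr_self, smul_eq_mul, mul_one]
    · intro i _ hik
      rw [Pi.smul_apply, sr_ne (Ne.symm hik), smul_zero]
    · intro hk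
      exact absurd (Finset.mem_univ k) hk
  conv_lhs => rw [h1]
  rw [map_sum]
  conv_rhs => rw [h1]
  refine Finset.sum_congr rfl fun i _ => ?_
  rw [map_smul]
  by_cases hi : i ∈ J
  · rw [hJ i hi]
  · rw [hx i hi, zero_smul, zero_smul]

omit R in
/-- `w² = 1`, `w α_i = α_i` or `w α_i < 0`: the positive roots made positive are supported on `J` -/
theorem PW_le_PosJ {w : W} (hw2 : w * w = 1) (hw : ∀ i, rep cs h w (sr i) = sr i ∨ rep cs h w (sr i) ≤ 0) :
    PW cs h w ⊆ PosJ cs h {i | rep cs h w (sr i) = sr i} := by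
  classical
  rintro x ⟨hx, h0, h1⟩
  rcases mem_PosJ_or_NotJ {i | rep cs h w (sr i) = sr i} hx h0 with h2 | ⟨-, -, k, hk, hk0⟩
  · exact h2
  exfalso
  set J : Set I := {i | rep cs h w (sr i) = sr i} with hJdef
  let φ : (I → ℤ) →ₗ[ℤ] ℤ := ∑ i : I, if i ∈ J then 0 else LinearMap.proj i
  have hφ : ∀ y : I → ℤ, φ y = ∑ i : I, if i ∈ J then 0 else y i := by
    intro y
    show (∑ i : I, if i ∈ J then (0 : (I → ℤ) →ₗ[ℤ] ℤ) else LinearMap.proj i) y = _
    rw [LinearMap.sum_apply]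
    refine Finset.sum_congr rfl fun i _ => ?_
    split_ifs <;> rfl
  have hφneg : ∀ y : I → ℤ, y ≤ 0 → φ y ≤ 0 := by
    intro y hy
    rw [hφ]
    refine Finset.sum_nonpos fun i _ => ?_
    split_ifs
    · exact le_refl _
    · exact hy i
  have hneg : ∀ i, i ∉ J → φ (rep cs h w (sr i)) < 0 := by
    intro i hi
    have hi' : rep cs h w (sr i) ≤ 0 := (hw i).resolve_left hi
    rcases (hφneg _ hi').lt_or_eq with h3 | h3
    · exact h3
    exfalso
    rw [hφ] at h3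
    have h4 := (Finset.sum_eq_zero_iff_of_nonpos (fun j _ => by
      show (if j ∈ J then (0 : ℤ) else rep cs h w (sr i) j) ≤ 0
      split_ifs
      · exact le_refl _
      · exact hi' j)).1 h3
    have h5 : rep cs h w (rep cs h w (sr i)) = rep cs h w (sr i) := by
      refine rep_fix (J := J) (fun j hj => hj) fun j hj => ?_
      have := h4 j (Finset.mem_univ j)
      rwa [if_neg hj] at this
    rw [← rep_mul_apply, hw2, map_one, Module.End.one_apply] at h5
    have h6 := hi' i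
    rw [← h5, sr_self] at h6
    exact absurd h6 (by simp)
  have hxs : rep cs h w x = ∑ i, x i • rep cs h w (sr i) := by
    have h3 : x = ∑ i, x i • (sr i : I → ℤ) := by
      ext k
      rw [Finset.sum_apply, Finset.sum_eq_single k]
      · rw [Pi.smul_apply, sr_self, smul_eq_mul, mul_one]
      · intro i _ hik
        rw [Pi.smul_apply, sr_ne (Ne.symm hik), smul_zero]
      · intro hk
        exact absurd (Finset.mem_univ k) hk
    conv_lhs => rw [h3]
    rw [map_sum]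
    exact Finset.sum_congr rfl fun i _ => by rw [map_smul]
  have h3 : φ (rep cs h w x) < 0 := by
    rw [hxs, map_sum]
    refine Finset.sum_neg' (fun i _ => ?_) ⟨k, Finset.mem_univ k, ?_⟩
    · rw [map_smul, smul_eq_mul]
      by_cases hi : i ∈ J
      · have h4 : rep cs h w (sr i) = sr i := hi
        have h5 : φ (sr i : I → ℤ) = 0 := by
          rw [hφ]
          refine Finset.sum_eq_zero fun j _ => ?_
          split_ifs with hj
          · rfl
          · exact sr_ne (by rintro rfl; exact hj hi)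
        rw [h4, h5, mul_zero]
      · exact mul_nonpos_of_nonneg_of_nonpos (h0 i) (hneg i hi).le
    · rw [map_smul, smul_eq_mul]
      exact mul_neg_of_pos_of_neg hk0 (hneg k hk)
  have h4 : 0 ≤ φ (rep cs h w x) := by
    rw [hφ]
    refine Finset.sum_nonneg fun i _ => ?_
    split_ifs
    · exact le_refl _
    · exact h1 i
  omega

/-- **Involutions are conjugate to monomial elements.** -/
theorem exists_conj [Finite W] {a d : Y} (hd : Gp cs h T X 1 d) (had : a * d⁻¹ ∈ GG cs h T X) (haa : a * a = 1) :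
    ∃ g ∈ GG cs h T X, ∃ w m, Gp cs h T X w m ∧ g * a * g⁻¹ = m ∧ m * m = 1 ∧ w * w = 1 ∧
      ∀ i, rep cs h w (sr i) = sr i ∨ rep cs h w (sr i) ≤ 0 := by
  classical
  let S : Set W := {w | ∃ g ∈ GG cs h T X, GC cs h T X w (g * a * g⁻¹)}
  have hne : S.Nonempty := by
    obtain ⟨w, hw⟩ := (mem_GG R).1 had
    refine ⟨w, 1, one_mem _, ?_⟩
    have h1 := GC.of_cell R hd hw
    rw [inv_mul_cancel_right] at h1
    rwa [one_mul, inv_one, mul_one]
  obtain ⟨w, ⟨g, hg, b₁, hb₁, m₀, hm₀, b₂, hb₂, hgc⟩, hmax⟩ :=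
    Set.exists_max_image S (fun w => cs.length w) (Set.toFinite S) hne
  obtain ⟨t, ht, u, hu, htu⟩ := R.mem_B.1 (mul_mem hb₂ hb₁)
  obtain ⟨g₁, hg₁⟩ : ∃ g₁, g₁ = b₁⁻¹ * g := ⟨_, rfl⟩
  have hg₁G : g₁ ∈ GG cs h T X := by rw [hg₁]; exact mul_mem (inv_mem (B_le_GG hb₁)) hg
  obtain ⟨m, hmdef⟩ : ∃ m, m = m₀ * t := ⟨_, rfl⟩
  have hm : Gp cs h T X w m := by
    have := hm₀.mul (gp_of_rp R (rp_of_mem (cs := cs) (hN := R.nsys) ht))
    rwa [mul_one, ← hmdef] at this
  have hc : g₁ * a * g₁⁻¹ = m * u := by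
    have e1 : g₁ * a * g₁⁻¹ = b₁⁻¹ * (g * a * g⁻¹) * b₁ := by rw [hg₁]; group
    rw [e1, hgc, hmdef]
    have e2 : b₁⁻¹ * (b₁ * m₀ * b₂) * b₁ = m₀ * (b₂ * b₁) := by group
    rw [e2, htu]; group
  obtain ⟨c, hcdef⟩ : ∃ c, c = m * u := ⟨_, rfl⟩
  have hcc : c * c = 1 := by
    rw [hcdef, ← hc]
    have : g₁ * a * g₁⁻¹ * (g₁ * a * g₁⁻¹) = g₁ * (a * a) * g₁⁻¹ := by group
    rw [this, haa]; group
  have hcinv : c⁻¹ = c := inv_eq_of_mul_eq_one_left hcc
  have hGc : GC cs h T X w c := ⟨1, one_mem _, m, hm, u, RGD.U_le_B hu, by rw [hcdef]; group⟩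
  have hwinv : w⁻¹ = w := by
    have h1 := hGc.inv
    rw [hcinv] at h1
    exact h1.unique R hGc
  have hw2 : w * w = 1 := by
    have h1 := mul_inv_cancel w
    rwa [hwinv] at h1
  -- `m² = 1`
  have hq : Gp cs h T X 1 (m * m) := by
    have := hm.mul hm
    rwa [hw2] at this
  have huG : u ∈ GG cs h T X := B_le_GG (RGD.U_le_B hu)
  have hx : m * u * m⁻¹ = u⁻¹ * (m * m)⁻¹ := by
    have h1 : m * u * (m * u) = 1 := by rw [← hcdef]; exact hcc
    have h2 : m * u * m⁻¹ = (m * u * (m * u)) * (u⁻¹ * (m * m)⁻¹) := by group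
    rw [h2, h1, one_mul]
  have hqG : m * m ∈ GG cs h T X := by
    have h1 := hm.conj_GG huG
    rw [hx] at h1
    have h2 := mul_mem huG h1
    rw [mul_inv_cancel_left] at h2
    exact (inv_mem_iff).1 h2
  have hqT : m * m ∈ T := hq.mem_T R hqG
  obtain ⟨k, hk⟩ := R.isPGroup_Upos ⟨u, hu⟩
  have hk' : u ^ p ^ k = 1 := by
    have := congrArg Subtype.val hk
    simpa using this
  have hxU : m * u * m⁻¹ ∈ RGD.Sup X (RGD.Pos cs h) := by
    refine R.mem_U_of_mem_B (k := k) ?_ ?_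
    · rw [hx]
      exact mul_mem (inv_mem (RGD.U_le_B hu)) (inv_mem (RGD.T_le_B hqT))
    · rw [conj_pow, hk']; group
  have hq1 : m * m = 1 := by
    have h1 : (m * m)⁻¹ ∈ RGD.Sup X (RGD.Pos cs h) ⊓ T := by
      refine Subgroup.mem_inf.2 ⟨?_, inv_mem hqT⟩
      have := mul_mem hu hxU
      rwa [hx, mul_inv_cancel_left] at this
    rw [U_inf_T R, Subgroup.mem_bot] at h1
    exact inv_eq_one.1 h1
  have hminv : m⁻¹ = m := inv_eq_of_mul_eq_one_left hq1
  rw [hq1, inv_one, mul_one] at hx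
  -- the lengths
  have hfold : ∀ i, cs.length (cs.simple i * w) < cs.length w ∨
      (cs.length w < cs.length (cs.simple i * w) ∧ cs.simple i * w = w * cs.simple i) := by
    intro i
    rcases cs.length_simple_mul w i with h1 | h1
    · right
      refine ⟨by omega, ?_⟩
      have h2 : cs.length (w * cs.simple i) = cs.length w + 1 := by
        rw [← cs.length_inv (w * cs.simple i), mul_inv_rev, inv_simple, hwinv, h1]
      rcases fold cs h1 h2 with h3 | h3
      · exfalso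
        have h4 := GC.conj_n R hGc h3
        have h5 : cs.simple i * w * cs.simple i ∈ S := by
          refine ⟨n i * g₁, mul_mem (NN_le_GG R ⟨_, rp_simple cs R.nsys i⟩) hg₁G, ?_⟩
          have e : n i * g₁ * a * (n i * g₁)⁻¹ = n i * (g₁ * a * g₁⁻¹) * (n i)⁻¹ := by group
          rw [e, hc, ← hcdef]
          exact h4
        have h6 : cs.length (cs.simple i * w * cs.simple i) ≤ cs.length w := hmax _ h5
        omega
      · exact h3
    · left; omega
  have hP : ∀ i, (rep cs h w (sr i) = sr i ∧ cs.simple i * w = w * cs.simple i ∧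
      cs.length w < cs.length (w * cs.simple i)) ∨ rep cs h w (sr i) ≤ 0 := by
    intro i
    rcases hfold i with h1 | ⟨h1, h2⟩
    · right
      refine nonpos_of_lt cs h w i ?_
      rw [← cs.length_inv (w * cs.simple i), mul_inv_rev, inv_simple, hwinv]
      exact h1
    · left
      have h3 : 0 ≤ rep cs h w (sr i) := (lt_iff' cs h w i).1 (by rw [← h2]; exact h1)
      refine ⟨?_, h2, by rw [← h2]; exact h1⟩
      by_contra hne
      have h4 := ((isRoot_sr cs h i).act w).simple_nonneg h3 i hne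
      rw [← rep_mul_apply, h2, rep_mul_apply, rep_simple_sr, map_neg] at h4
      exact ((isRoot_sr cs h i).act w).not_pos_neg h3 (neg_nonneg.1 h4)
  have hP' : ∀ i, rep cs h w (sr i) = sr i ∨ rep cs h w (sr i) ≤ 0 := fun i => (hP i).imp (fun h1 => h1.1) id
  set J : Set I := {i | rep cs h w (sr i) = sr i} with hJdef
  have hJ : ∀ i ∈ J, cs.simple i * w = w * cs.simple i ∧ cs.length w < cs.length (w * cs.simple i) := by
    intro i hi
    rcases hP i with h1 | h1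
    · exact h1.2
    · exfalso
      have hi' : rep cs h w (sr i) = sr i := hi
      rw [hi'] at h1
      have := h1 i
      rw [sr_self] at this
      exact absurd this (by simp)
  have hcomm : ∀ v ∈ WJ cs J, v * w = w * v := by
    intro v hv
    unfold WJ at hv
    induction hv using Subgroup.closure_induction with
    | mem v hv => obtain ⟨i, hi, rfl⟩ := hv; exact (hJ i hi).1
    | one => rw [one_mul, mul_one]
    | mul x y _ _ hx hy => rw [mul_assoc, hy, ← mul_assoc, hx, mul_assoc]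
    | inv x _ hx =>
      have h1 : x⁻¹ * (x * w) * x⁻¹ = x⁻¹ * (w * x) * x⁻¹ := by rw [hx]
      have h2 : x⁻¹ * (x * w) * x⁻¹ = w * x⁻¹ := by group
      have h3 : x⁻¹ * (w * x) * x⁻¹ = x⁻¹ * w := by group
      rw [h2, h3] at h1
      exact h1.symm
  -- `u ∈ U_J`
  obtain ⟨k₁, hk₁⟩ := exists_rp cs R.nsys w
  have huJ : u ∈ UJ cs h X J := by
    have he : Gp cs h T X 1 (k₁⁻¹ * m) := by
      have := (gp_of_rp R hk₁).inv.mul hm
      rwa [inv_mul_cancel] at this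
    have h1 : k₁⁻¹ * u * k₁ ∈ RGD.B cs h T X := by
      have e : k₁⁻¹ * u * k₁ = (k₁⁻¹ * m) * (m⁻¹ * u * m) * (k₁⁻¹ * m)⁻¹ := by group
      rw [e, hminv]
      have e2 : m * u * m = u⁻¹ := by
        have := hx
        rwa [hminv] at this
      rw [e2]
      exact he.conj_B (inv_mem (RGD.U_le_B hu))
    have h2 := mem_PW_of_conj R hk₁ hu h1
    rw [hwinv] at h2
    exact RGD.Sup_mono (PW_le_PosJ hw2 hP') h2
  -- conjugation by the longest element of `W_J`
  have hlong : IsLongest cs J (wJ cs J) := isLongest_wJ cs J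
  obtain ⟨kv, hkv⟩ := exists_rp cs R.nsys (wJ cs J)
  have hkvG : kv ∈ GG cs h T X := NN_le_GG R ⟨_, hkv⟩
  have hr1 : Rp cs R.nsys (wJ cs J) (m⁻¹ * kv * m) := by
    have h1 := (hm.inv.mul (gp_of_rp R hkv)).mul hm
    rw [hwinv, mul_assoc, hcomm _ hlong.1, ← mul_assoc, hw2, one_mul] at h1
    refine h1.rp R ?_
    have := hm.inv.conj_GG hkvG
    rwa [inv_inv] at this
  have hyL : m⁻¹ * kv * m * u * kv⁻¹ ∈ LJ cs h T X J :=
    mul_mem (mul_mem (rp_mem_LJ R hlong.1 hr1) (BJ_le_LJ (UJ_le_BJ huJ))) (inv_mem (rp_mem_LJ R hlong.1 hkv))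
  obtain ⟨x, hxJ, hcell⟩ := exists_cellJ R hyL
  have hmBJ : ∀ b ∈ BJ cs h T X J, m * b * m⁻¹ ∈ RGD.B cs h T X := by
    intro b hb
    have h1 : cj m (BJ cs h T X J) ≤ RGD.B cs h T X := by
      unfold BJ UJ
      rw [cj_sup, hm.1, RGD.cj_Sup]
      refine sup_le RGD.T_le_B (iSup_le fun z => ?_)
      rw [hm.2 z.1 z.2.1, rep_fix (J := J) (fun j hj => hj) z.2.2.2]
      exact RGD.X_le_B z.2.1 z.2.2.1
    exact h1 (conj_mem_cj.2 hb)
  have hx1 : x = 1 := by
    obtain ⟨c₁, hc₁, k', hk', c₂, hc₂, e⟩ := hcell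
    have h1 : w * x ∈ S := by
      refine ⟨kv * g₁, mul_mem hkvG hg₁G, m * c₁ * m⁻¹, hmBJ c₁ hc₁, m * k', hm.mul (gp_of_rp R hk'), c₂,
        BJ_le_B J hc₂, ?_⟩
      have e1 : kv * g₁ * a * (kv * g₁)⁻¹ = kv * (g₁ * a * g₁⁻¹) * kv⁻¹ := by group
      rw [e1, hc]
      have e2 : m * c₁ * m⁻¹ * (m * k') * c₂ = m * (c₁ * k' * c₂) := by group
      rw [e2, ← e]
      group
    have h2 : cs.length (w * x) ≤ cs.length w := hmax _ h1
    have h3 := (inferInstance : Cfsg.Agent.Tits.OppRes.Cox cs).add_right J w (fun j hj => (hJ j hj).2) x hxJ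
    have h4 : cs.length x = 0 := by omega
    exact cs.length_eq_zero_iff.1 h4
  have hyB : m⁻¹ * kv * m * u * kv⁻¹ ∈ RGD.B cs h T X := by
    rw [hx1] at hcell
    exact BJ_le_B J hcell.mem_of_one
  have hT1 : m⁻¹ * kv * m * kv⁻¹ ∈ T := by
    have := hr1.mul hkv.inv
    rw [mul_inv_cancel] at this
    exact this.mem_of_one
  have huv : kv * u * kv⁻¹ ∈ RGD.B cs h T X := by
    have := mul_mem (inv_mem (RGD.T_le_B hT1)) hyB
    have e : (m⁻¹ * kv * m * kv⁻¹)⁻¹ * (m⁻¹ * kv * m * u * kv⁻¹) = kv * u * kv⁻¹ := by group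
    rwa [e] at this
  have huv2 : kv * u * kv⁻¹ ∈ UN cs h X :=
    conj_mem_Sup R hkv (S' := Neg cs h) (fun x hx => hx.1) (fun x hx => ⟨hx.1.act _, rep_longest_nonpos hlong hx⟩) huJ
  have h9 := eq_one_of_mem_UN_of_mem_B R huv2 huv
  have hu1 : u = 1 := by
    have : u = kv⁻¹ * (kv * u * kv⁻¹) * kv := by group
    rw [this, h9]; group
  refine ⟨g₁, hg₁G, w, m, hm, ?_, hq1, hw2, hP'⟩
  rw [hc, hu1, mul_one]

end Cfsg.Agent.H378.InvN
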