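import Mathlib
import Cfsg.Agent.H378.Spr.InvN
import Cfsg.Agent.H891.UL.Disp
import Cfsg.Agent.KFacts.RgdNodes
import Cfsg.Agent.Nodes.RGDLib

/-!
# Involutory automorphisms of groups with a root group datum in characteristic 2 (helper378)
-/

set_option autoImplicit false
set_option linter.unusedSectionVars false

namespace Cfsg.Agent.H378.AutN

open CoxeterSystem Cfsg.Agent.ChevalleyStructure.CoxeterGeom Cfsg.Agent.Tits.Roots Cfsg.Agent.Tits.Core
  Cfsg.Agent.Tits.Exchange Cfsg.Agent.Nodes.Reps Cfsg.Agent.Nodes.BNOf Cfsg.Agent.Nodes.StabComb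
  Cfsg.Agent.Nodes.Bruhat Cfsg.Agent.Nodes.OppDec Cfsg.Agent.Nodes.LeviDec Cfsg.Agent.Nodes.NormalForm
  Cfsg.Agent.KFacts.RgdOpp Cfsg.Agent.KFacts.RgdAut Cfsg.Agent.KFacts.RgdDiag

variable {I W L : Type*} [Fintype I] [DecidableEq I] [Group W] [Group L] {M : CoxeterMatrix I}
  {cs : CoxeterSystem M W} {A : I → I → ℤ} {h : IsCartan M A} {p : ℕ} {T : Subgroup L} {n : I → L}
  {X : (I → ℤ) → Subgroup L}

theorem map_conj (δ : MulAut L) (g : L) : δ * MulAut.conj g * δ⁻¹ = MulAut.conj (δ g) := by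
  ext x
  simp [MulAut.conj_apply]

theorem cj_map_conj (δ : MulAut L) (K : Subgroup L) :
    cj δ (K.map (MulAut.conj : L →* MulAut L)) = (K.map δ.toMonoidHom).map (MulAut.conj : L →* MulAut L) := by
  ext y
  rw [mem_cj]
  constructor
  · rintro ⟨g, hg, e⟩
    refine ⟨δ g, ⟨g, hg, rfl⟩, ?_⟩
    rw [← map_conj, e]
    group
  · rintro ⟨_, ⟨g, hg, rfl⟩, rfl⟩
    refine ⟨g, hg, ?_⟩
    show _ = δ⁻¹ * MulAut.conj (δ g) * δ
    rw [← map_conj]
    group

theorem map_eq_of_fix {δ : MulAut L} {K : Subgroup L} (hF : Fix δ K) : K.map δ.toMonoidHom = K := by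
  ext y
  constructor
  · rintro ⟨x, hx, rfl⟩
    exact (hF x).2 hx
  · intro hy
    refine ⟨δ⁻¹ y, (hF.inv y).2 hy, ?_⟩
    exact MulAut.apply_inv_self _ δ y

theorem rp_word {Y : Type*} [Group Y] {T : Subgroup Y} {n : I → Y} (hN : NSys M T n) (ω : List I) :
    Rp cs hN (cs.wordProd ω) (ω.map n).prod := by
  induction ω with
  | nil =>
    rw [wordProd_nil, List.map_nil, List.prod_nil]
    exact rp_one
  | cons i ω ih =>
    rw [wordProd_cons, List.map_cons, List.prod_cons]
    exact (rp_simple cs hN i).mul ih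

section

variable (R : RGD cs h p T n X)

include R

theorem diag_rp [Finite W] {δ : MulAut L} (D : Diag T X δ 1) {w : W} {k : L} (hk : Rp cs R.nsys w k) :
    Rp cs R.nsys w (δ k) := by
  obtain ⟨ω, rfl⟩ := cs.wordProd_surjective w
  have h1 : Rp cs R.nsys (cs.wordProd ω) (δ (ω.map n).prod) := by
    clear hk
    induction ω with
    | nil =>
      rw [wordProd_nil, List.map_nil, List.prod_nil, map_one]
      exact rp_one
    | cons i ω ih =>
      rw [wordProd_cons, List.map_cons, List.prod_cons, map_mul]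
      exact (D.rp (R := R) i).mul ih
  have h2 := (rp_word (cs := cs) R.nsys ω).inv.mul hk
  rw [inv_mul_cancel] at h2
  have h3 := (D.tor _).2 h2.mem_of_one
  have h4 := h1.mul_mem_right h3
  rwa [← map_mul, mul_inv_cancel_left] at h4

theorem diag_X [Finite W] {δ : MulAut L} (D : Diag T X δ 1) {x : I → ℤ} (hx : IsRoot cs h x) :
    (X x).map δ.toMonoidHom = X x := by
  obtain ⟨w, i, rfl⟩ := hx
  obtain ⟨k, hk⟩ := exists_rp cs R.nsys w
  have h1 : X (rep cs h w (sr i)) = cj k (X (sr i)) := (R.conj_rp hk (isRoot_sr cs h i)).symm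
  have h2 : X (rep cs h w (sr i)) = cj (δ k) (X (sr i)) :=
    (R.conj_rp (diag_rp R D hk) (isRoot_sr cs h i)).symm
  have h3 : (X (sr i)).map δ.toMonoidHom = X (sr i) := map_eq_of_fix fun x => D.pos i x
  rw [h1, ← Cfsg.Agent.Nodes.RGDLib.cj_map, h3, ← h1, h2]
  rfl

/-- frame automorphisms as elements over `1` -/
theorem gp_of_diag [Finite W] {δ : MulAut L} (D : Diag T X δ 1) :
    InvN.Gp cs h (T.map (MulAut.conj : L →* MulAut L)) (fun x => (X x).map (MulAut.conj : L →* MulAut L)) 1 δ := by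
  refine ⟨?_, fun x hx => ?_⟩
  · rw [cj_map_conj, map_eq_of_fix D.tor]
  · rw [cj_map_conj, diag_X R D hx, map_one, Module.End.one_apply]

omit R in
theorem fix_of_cj (hf : Function.Injective (MulAut.conj : L →* MulAut L)) {δ : MulAut L} {K : Subgroup L}
    (hK : cj δ (K.map (MulAut.conj : L →* MulAut L)) = K.map (MulAut.conj : L →* MulAut L)) : Fix δ K := by
  rw [cj_map_conj] at hK
  have h1 := Subgroup.map_injective hf hK
  intro x
  constructor
  · intro hx
    rw [← h1] at hx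
    obtain ⟨y, hy, e⟩ := hx
    rw [← δ.injective e]
    exact hy
  · intro hx
    rw [← h1]
    exact ⟨x, hx, rfl⟩

omit R in
theorem diag_of_gp (hf : Function.Injective (MulAut.conj : L →* MulAut L)) {δ : MulAut L}
    (hG : InvN.Gp cs h (T.map (MulAut.conj : L →* MulAut L)) (fun x => (X x).map (MulAut.conj : L →* MulAut L)) 1 δ) :
    Diag T X δ 1 := by
  have key : ∀ x, IsRoot cs h x → Fix δ (X x) := fun x hx => fix_of_cj hf (by
    have := hG.2 x hx
    rwa [map_one, Module.End.one_apply] at this)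
  exact ⟨fix_of_cj hf hG.1, fun i x => key _ (isRoot_sr cs h i) x, fun i x => key _ (isRoot_sr cs h i).neg x⟩

end

/-- **The normal form of involutory automorphisms.** -/
theorem exists_form (R : RGD cs h 2 T n X) [Finite W] [Finite L] (hf : Function.Injective (MulAut.conj : L →* MulAut L))
    (hG : GG cs h T X = ⊤) (hσ : ∀ (δ : MulAut L) (σ : Equiv.Perm I), Diag T X δ σ → σ = 1) {a : MulAut L}
    (haa : a * a = 1) :
    ∃ (γ : MulAut L) (w : W), w * w = 1 ∧ (∀ i, rep cs h w (sr i) = sr i ∨ rep cs h w (sr i) ≤ 0) ∧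
      ∀ ω : List I, w = cs.wordProd ω → ∃ β : MulAut L, Diag T X β 1 ∧
        γ * a * γ⁻¹ = MulAut.conj (ω.map n).prod * β := by
  have : Fact (Nat.Prime 2) := ⟨Nat.prime_two⟩
  obtain ⟨g, δ, σ, D, -, -, hag⟩ := H891.UL.Disp.exists_conj_diag R hG a
  have hs := hσ δ σ D
  subst hs
  have ha : a = MulAut.conj g * δ := by
    ext x
    rw [hag, MulAut.mul_apply, MulAut.conj_apply]
  have R' := Cfsg.Agent.Nodes.RGDLib.rgd_map_of_injective R (MulAut.conj : L →* MulAut L) hf
  have hGG : ∀ x : L, MulAut.conj x ∈ GG cs h (T.map (MulAut.conj : L →* MulAut L))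
      (fun x => (X x).map (MulAut.conj : L →* MulAut L)) := by
    intro x
    have h1 : (GG cs h T X).map (MulAut.conj : L →* MulAut L) ≤ GG cs h (T.map (MulAut.conj : L →* MulAut L))
        (fun x => (X x).map (MulAut.conj : L →* MulAut L)) := by
      rw [Subgroup.map_le_iff_le_comap]
      unfold GG
      refine sup_le ?_ (RGD.Sup_le fun z hz => ?_)
      · rw [← Subgroup.map_le_iff_le_comap]
        exact le_sup_left
      · rw [← Subgroup.map_le_iff_le_comap]
        exact X_le_GG (X := fun x => (X x).map (MulAut.conj : L →* MulAut L)) hz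
    apply h1
    rw [hG]
    exact ⟨x, Subgroup.mem_top x, rfl⟩
  have hd := gp_of_diag R D
  obtain ⟨γ, -, w, m, hm, hgm, -, hww, hP⟩ := InvN.exists_conj R' hd
    (show a * δ⁻¹ ∈ _ by rw [ha, mul_inv_cancel_right]; exact hGG g) haa
  refine ⟨γ, w, hww, hP, fun ω hω => ?_⟩
  subst hω
  have hk : Rp cs R'.nsys (cs.wordProd ω) (MulAut.conj (ω.map n).prod) := by
    have h1 := rp_word (cs := cs) R'.nsys ω
    rwa [map_list_prod, List.map_map]
  refine ⟨(MulAut.conj (ω.map n).prod)⁻¹ * m, ?_, ?_⟩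
  · apply diag_of_gp (cs := cs) (h := h) hf
    have h1 := (InvN.gp_of_rp R' hk).inv.mul hm
    rwa [inv_mul_cancel] at h1
  · rw [hgm, mul_inv_cancel_left]

end Cfsg.Agent.H378.AutN
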