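import Mathlib
import Cfsg.Agent.H378.Spr.E6Msk

/-!
# Certificates for the involutions of `Aut ²E₆(2)` (helper378)
-/

set_option autoImplicit false

namespace Cfsg.Agent.H378.E6Cert

open Cfsg Cfsg.Lie Cfsg.Agent.ChevalleyStructure Cfsg.Agent.ChevalleyStructure.Elts Cfsg.Agent.H378.MVec
  Cfsg.Agent.H378.E6Msk

/-- the fundamental reflections on the roots of `E₆` -/
def pls : List (List ℕ) := [[0, 1, 2, 3, 4, 16, 17, 18, 19, 20, 21, 26, 27, 28, 29, 56, 5, 6, 7, 8, 9, 10, 22, 23, 24, 25, 11, 12, 13, 14, 30, 31, 32, 33, 34, 35, 36, 37, 38, 39, 40, 41, 57, 58, 59, 60, 46, 47, 48, 49, 61, 62, 63, 64, 65, 66, 15, 42, 43, 44, 45, 50, 51, 52, 53, 54, 55, 67, 68, 69, 70, 71], [1, 0, 2, 3, 4, 5, 6, 7, 11, 12, 13, 8, 9, 10, 14, 15, 16, 17, 18, 26, 27, 28, 30, 31, 32, 46, 19, 20, 21, 29, 22, 23, 24, 33, 34, 35, 36, 37, 38, 47,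 48, 49, 42, 50, 51, 52, 25, 39, 40, 41, 43, 44, 45, 53, 54, 55, 56, 57, 61, 62, 63, 58, 59, 60, 64, 65, 66, 67, 68, 69, 71, 70], [0, 1, 5, 6, 7, 2, 3, 4, 8, 9, 10, 11, 12, 13, 15, 14, 16, 17, 18, 22, 23, 24, 19, 20, 21, 25, 30, 31, 32, 42, 26, 27, 28, 33, 34, 35, 36, 37, 38, 43, 44, 45, 29, 39, 40, 41, 46, 50, 51, 52, 47, 48, 49, 53, 54, 55, 57, 56, 58, 59, 60, 61, 62, 63, 67, 68, 69, 64, 65, 66, 70, 71], [0, 2, 1, 3, 4, 5, 8, 9, 6, 7, 10, 11, 12, 14, 13, 15, 16, 19, 20, 17, 18, 21, 22, 23, 25, 24, 26, 27, 29, 28, 33, 34, 39, 30, 31, 35, 36, 40, 41, 32, 37, 38, 43, 42, 44, 45, 47, 46, 48, 49, 50, 53, 54, 51, 52, 55, 56, 58, 57, 59, 60, 61, 64, 65, 62, 63, 66, 67, 68, 70, 69, 71], [0, 1, 3, 2, 4, 6, 5, 7, 8, 10, 9, 11, 13, 12, 14, 15, 17, 16, 18, 19, 21, 20, 22, 24, 23, 25, 26, 28, 27, 29, 30, 32, 31, 35, 37, 33, 38, 34,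 36, 40, 39, 41, 42, 44, 43, 45, 46, 48, 47, 49, 51, 50, 52, 53, 55, 54, 56, 57, 59, 58, 60, 62, 61, 63, 64, 66, 65, 67, 69, 68, 70, 71], [0, 1, 2, 4, 3, 5, 7, 6, 9, 8, 10, 12, 11, 13, 14, 15, 16, 18, 17, 20, 19, 21, 23, 22, 24, 25, 27, 26, 28, 29, 31, 30, 32, 34, 33, 36, 35, 38, 37, 39, 41, 40, 42, 43, 45, 44, 46, 47, 49, 48, 50, 52, 51, 54, 53, 55, 56, 57, 58, 60, 59, 61, 63, 62, 65, 64, 66, 68, 67, 69, 70, 71]]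

theorem chk_pls : ((List.range 6).all fun i => (List.range 72).all fun s =>
    decide ((pls.getD i []).getD s 0 = chevE6.reflectRoot i s)) = true := by decide +kernel

/-- the nodes -/
def jj (i : Fin 4) : List ℕ := [[1], [3], [2, 4], [0, 5]].getD i.val []

/-- the permutation of a word -/
def pw (o : List ℕ) (s : ℕ) : ℕ := o.foldr (fun i r => (pls.getD i []).getD r 0) s

/-- the conjugate root -/
def rb (s : ℕ) : ℕ := if s = 56 then 36 else if s = 15 then 35 else if s = 42 then 37 else 34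

/-- the letters of `²E₆(2)` -/
def ex (e : ℕ × ℕ) : List (ℕ × ℕ) :=
  if e.1 = 46 ∨ e.1 = 25 ∨ e.1 = 39 ∨ e.1 = 32 then [(e.1, 1)] else [(rb e.1, sqc e.2), (e.1, e.2)]

/-- admissible letters -/
def okL (e : ℕ × ℕ) : Bool :=
  decide (e.1 = 46 ∨ e.1 = 25 ∨ e.1 = 39 ∨ e.1 = 32 ∨ ((e.1 = 56 ∨ e.1 = 15 ∨ e.1 = 42 ∨ e.1 = 29) ∧
    (e.2 = 1 ∨ e.2 = 2 ∨ e.2 = 3)))

/-- the image of a word under `n_ω τ` -/
def mpE (o : List ℕ) (b : Bool) (w : List (ℕ × ℕ)) : List (ℕ × ℕ) :=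
  w.map fun e => (pw o e.1, if b = true then sqc e.2 else e.2)

/-- a certificate -/
abbrev Cert := List (Fin 4) × Bool × List (ℕ × ℕ) × (ℕ × ℕ) × ℕ × (ℕ × ℕ) × ℕ

/-- the check of a certificate -/
def ok (d : Cert) : Bool :=
  d.2.2.1.all okL && (chk tab 78 19 (d.2.2.1.flatMap ex) d.2.2.2.1 d.2.2.2.2.1 &&
    chk tab 78 13 (mpE (d.1.flatMap jj) d.2.1 (d.2.2.1.flatMap ex) ++ d.2.2.1.flatMap ex) d.2.2.2.2.2.1 d.2.2.2.2.2.2)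

/-- certificates -/
def certs0 : List Cert := [
  ([3, 2, 1, 2, 0, 1, 2, 3, 2, 1, 2, 0, 1, 2, 3, 2, 1, 2, 0, 1, 2, 0, 1, 0], false, [(32, 1), (39, 1), (42, 1), (46, 1), (25, 1), (29, 3), (56, 1), (15, 1)], (1, 0), 63, (1, 0), 63),
  ([3, 2, 1, 2, 0, 1, 2, 3, 2, 1, 2, 0, 1, 2, 3, 1, 2, 0, 1, 2, 0, 1, 0], false, [(15, 2), (42, 2), (46, 1), (56, 3), (25, 1), (29, 2), (32, 1), (39, 1)], (1, 0), 64, (1, 0), 71),
  ([2, 1, 2, 0, 1, 2, 3, 2, 1, 2, 0, 1, 2, 3, 2, 1, 2, 0, 1, 2, 0, 1], false, [(39, 1), (25, 1), (42, 3), (46, 1), (29, 1), (56, 3), (15, 2), (32, 1)], (2, 0), 69, (1, 0), 63),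
  ([3, 2, 1, 2, 0, 1, 2, 3, 2, 1, 2, 0, 1, 2, 3], false, [(39, 1), (46, 1), (32, 1), (29, 2), (56, 2), (42, 2), (15, 3), (25, 1)], (1, 0), 20, (1, 0), 75),
  ([3, 2, 1, 2, 0, 1, 2, 3, 2, 1, 2, 0, 1, 2, 3, 2, 1, 2, 0, 1, 2, 0, 1], true, [(32, 1), (46, 1), (29, 2), (42, 2), (15, 2), (56, 3), (25, 1), (39, 1)], (1, 0), 21, (1, 0), 62),
  ([2, 1, 2, 0, 1, 2, 3, 2, 1, 2, 0, 1, 2, 3, 2, 1, 2, 0, 1, 2, 0, 1, 0], true, [(29, 1), (56, 3), (46, 1), (15, 2), (42, 2), (39, 1), (25, 1), (32, 1)], (1, 0), 49, (1, 0), 56),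
  ([2, 1, 2, 0, 1, 2, 3, 2, 1, 2, 0, 1, 2, 3, 2, 1, 2, 0, 1, 2, 1, 0], true, [(29, 1), (15, 2), (32, 1), (25, 1), (46, 1), (39, 1), (56, 1), (42, 1)], (2, 0), 50, (1, 0), 57),
  ([0, 1, 2, 3, 1, 2, 0, 1, 2, 3, 0, 1, 2, 1, 0], true, [(29, 1), (15, 2), (32, 1), (25, 1), (46, 1), (39, 1), (56, 1), (42, 1)], (2, 0), 50, (1, 0), 71)]

set_option maxRecDepth 100000 in
theorem ok0 : (certs0.all fun d => ok d) = true := by decide +kernel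

/-- certificates -/
def certs1 : List Cert := [
  ([3, 2, 1, 2, 0, 1, 2, 3, 2, 1, 2, 0, 1, 2, 3, 2, 1, 2, 0, 1, 2, 0, 1], false, [(39, 1), (56, 3), (42, 2), (29, 3), (25, 1), (32, 1), (39, 1), (15, 3), (46, 1)], (1, 0), 52, (1, 0), 56),
  ([2, 1, 2, 0, 1, 2, 3, 2, 1, 2, 0, 1, 2, 3, 2, 1, 2, 0, 1, 2, 0, 1, 0], false, [(46, 1), (15, 2), (25, 1), (56, 3), (39, 1), (32, 1), (29, 1), (42, 2)], (1, 0), 48, (1, 0), 45),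
  ([2, 1, 2, 0, 1, 2, 3, 2, 1, 2, 0, 1, 2, 3, 2, 1, 2, 0, 1, 2, 1, 0], false, [(29, 1), (15, 2), (32, 1), (25, 1), (46, 1), (39, 1), (56, 1), (42, 1)], (2, 0), 50, (1, 0), 41),
  ([0, 1, 2, 3, 1, 2, 0, 1, 2, 3, 0, 1, 2, 1, 0], false, [(29, 1), (46, 1), (39, 1), (32, 1), (42, 1), (46, 1), (56, 3), (25, 1), (15, 1)], (1, 0), 38, (1, 0), 77),
  ([3, 2, 1, 2, 0, 1, 2, 3, 2, 1, 2, 0, 1, 2, 3, 2, 1, 2, 0, 1, 2, 1, 0], true, [(46, 1), (15, 3), (56, 2), (39, 1), (32, 1), (29, 2), (42, 2), (25, 1)], (2, 0), 50, (1, 0), 63),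
  ([3, 2, 1, 2, 0, 1, 2, 3, 2, 1, 2, 0, 1, 2, 3, 1, 2, 0, 1, 2, 0, 1], true, [(32, 1), (46, 1), (29, 2), (15, 3), (42, 2), (39, 1), (25, 1), (56, 2)], (1, 0), 64, (1, 0), 66),
  ([3, 2, 1, 2, 0, 1, 2, 3, 2, 1, 2, 0, 1, 2, 3, 0, 1, 2, 1, 0], true, [(39, 1), (25, 1), (42, 3), (46, 1), (29, 1), (56, 3), (15, 2), (32, 1)], (2, 0), 69, (1, 0), 66),
  ([], true, [(15, 3), (46, 1), (29, 1), (25, 1), (32, 1), (39, 1), (42, 3), (56, 2)], (1, 0), 63, (1, 0), 66)]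

set_option maxRecDepth 100000 in
theorem ok1 : (certs1.all fun d => ok d) = true := by decide +kernel

/-- certificates -/
def certs2 : List Cert := [
  ([3, 2, 1, 2, 0, 1, 2, 3, 2, 1, 2, 0, 1, 2, 3, 2, 1, 2, 0, 1, 2, 1, 0], false, [(25, 1), (32, 1), (29, 3), (42, 2), (56, 1), (39, 1), (46, 1), (15, 2)], (1, 0), 62, (1, 0), 67),
  ([3, 2, 1, 2, 0, 1, 2, 3, 2, 1, 2, 0, 1, 2, 3, 1, 2, 0, 1, 2, 0, 1], false, [(29, 1), (15, 2), (32, 1), (25, 1), (46, 1), (39, 1), (56, 1), (42, 1)], (2, 0), 50, (1, 0), 75),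
  ([3, 2, 1, 2, 0, 1, 2, 3, 2, 1, 2, 0, 1, 2, 3, 0, 1, 2, 1, 0], false, [(39, 1), (25, 1), (56, 1), (15, 2), (29, 1), (32, 1), (39, 1), (42, 2), (46, 1)], (1, 0), 34, (1, 0), 75),
  ([3, 2, 1, 2, 0, 1, 2, 3, 2, 1, 2, 0, 1, 2, 3, 2, 1, 2, 0, 1, 2, 0, 1, 0], true, [(15, 2), (46, 1), (39, 1), (56, 3), (25, 1), (32, 1), (29, 1), (42, 3)], (1, 0), 48, (1, 0), 65),
  ([3, 2, 1, 2, 0, 1, 2, 3, 2, 1, 2, 0, 1, 2, 3, 1, 2, 0, 1, 2, 0, 1, 0], true, [(15, 3), (46, 1), (29, 1), (25, 1), (32, 1), (39, 1), (42, 3), (56, 2)], (1, 0), 63, (1, 0), 74),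
  ([2, 1, 2, 0, 1, 2, 3, 2, 1, 2, 0, 1, 2, 3, 2, 1, 2, 0, 1, 2, 0, 1], true, [(39, 1), (46, 1), (32, 1), (29, 2), (56, 2), (42, 2), (15, 3), (25, 1)], (1, 0), 20, (1, 0), 53),
  ([3, 2, 1, 2, 0, 1, 2, 3, 2, 1, 2, 0, 1, 2, 3], true, [(25, 1), (46, 1), (39, 1), (56, 1), (32, 1), (29, 2), (42, 1), (15, 1)], (2, 0), 50, (1, 0), 72)]

set_option maxRecDepth 100000 in
theorem ok2 : (certs2.all fun d => ok d) = true := by decide +kernel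

/-- all certificates -/
def certs : List Cert := certs0 ++ (certs1 ++ certs2)

theorem certs_ok {d : Cert} (h : d ∈ certs) : ok d = true := by
  unfold certs at h
  rcases List.mem_append.1 h with h | h
  · exact List.all_eq_true.1 ok0 d h
  · rcases List.mem_append.1 h with h | h
    · exact List.all_eq_true.1 ok1 d h
    · exact List.all_eq_true.1 ok2 d h

end Cfsg.Agent.H378.E6Cert
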