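import Mathlib
import Cfsg.Agent.Nodes.RGDTwE6

/-!
# The involutions of the Weyl group of `F₄` moving no fundamental root to another positive root (helper378)

`w² = 1`, `w αᵢ = αᵢ` or `w αᵢ < 0` for all `i`: `w` is one of twelve elements.
-/

set_option autoImplicit false

namespace Cfsg.Agent.H378.F4W

open CoxeterSystem Cfsg.Agent.ChevalleyStructure.CoxeterGeom Cfsg.Agent.Tits.Roots Cfsg.Agent.Nodes.Reps
open Cfsg.Agent.Nodes.RGDTwE6 (isCartan)

/-- the Cartan matrix -/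
def AA : List (List ℤ) := [[2, -1, 0, 0], [-1, 2, -1, 0], [0, -2, 2, -1], [0, 0, -1, 2]]

/-- the roots -/
def rts : List (List ℤ) := [[-2, -3, -4, -2], [-1, -3, -4, -2], [-1, -2, -4, -2], [-1, -2, -3, -2], [-1, -2, -3, -1], [-1, -2, -2, -2], [-1, -2, -2, -1], [-1, -2, -2, 0], [-1, -1, -2, -2], [-1, -1, -2, -1], [-1, -1, -2, 0], [-1, -1, -1, -1], [-1, -1, -1, 0], [-1, -1, 0, 0], [-1, 0, 0, 0], [0, -1, -2, -2], [0, -1, -2, -1], [0, -1, -2, 0], [0, -1, -1, -1], [0, -1, -1, 0], [0, -1, 0, 0], [0, 0, -1, -1], [0, 0, -1, 0], [0, 0, 0, -1], [0, 0, 0, 1], [0, 0, 1, 0], [0, 0, 1, 1], [0, 1, 0, 0], [0, 1, 1, 0], [0, 1, 1, 1], [0, 1, 2, 0], [0, 1, 2, 1], [0, 1, 2, 2], [1, 0, 0, 0], [1, 1, 0, 0], [1, 1, 1, 0], [1, 1, 1, 1], [1, 1, 2, 0], [1, 1, 2, 1], [1, 1, 2, 2], [1, 2, 2, 0], [1, 2, 2, 1], [1, 2, 2, 2], [1, 2, 3, 1], [1, 2, 3, 2], [1, 2, 4, 2], [1, 3, 4, 2], [2, 3, 4, 2]]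

/-- coefficient -/
def cf (r j : ℕ) : ℤ := (rts.getD r []).getD j 0

/-- the codes of the roots -/
def cds : List ℤ := [-69730, -69729, -69697, -68673, -35905, -67649, -34881, -2113, -67617, -34849, -2081, -33825, -1057, -33, -1, -67616, -34848, -2080, -33824, -1056, -32, -33792, -1024, -32768, 32768, 1024, 33792, 32, 1056, 33824, 2080, 34848, 67616, 1, 33, 1057, 33825, 2081, 34849, 67617, 2113, 34881, 67649, 35905, 68673, 69697, 69729, 69730]

/-- is it the code of a root -/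
def isR (z : ℤ) : Bool := cds.any fun c => decide (c = z)

/-- the code of the image of the root `r` under the map `αᵢ ↦ F i` -/
def img (F : List ℕ) (r : ℕ) : ℤ :=
  cf r 0 * cds.getD (F.getD 0 0) 0 + cf r 1 * cds.getD (F.getD 1 0) 0 + cf r 2 * cds.getD (F.getD 2 0) 0 +
    cf r 3 * cds.getD (F.getD 3 0) 0

/-- the index of the root with the code `z` -/
def ix (z : ℤ) : ℕ := cds.findIdx fun c => decide (c = z)

/-- the simple roots -/
def sm (i : ℕ) : ℕ := [33, 27, 25, 24].getD i 0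

/-- candidates -/
def cand (i : ℕ) : List ℕ := sm i :: List.range 24

/-- necessary condition for a pair -/
def ok2 (i j f g : ℕ) : Bool :=
  (isR (cds.getD f 0 + cds.getD g 0) == isR (cds.getD (sm i) 0 + cds.getD (sm j) 0)) &&
    !(isR (cds.getD f 0 - cds.getD g 0))

/-- the square is trivial, the roots go to roots -/
def sqo (F : List ℕ) : Bool := ((List.range 4).all fun i =>
  decide (img F (F.getD i 0) = cds.getD (sm i) 0)) && (List.range 48).all fun r => isR (img F r)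

/-- the words -/
def dat : List (List ℕ × List (Fin 4)) := [
  ([14, 20, 22, 23], [3, 2, 1, 2, 0, 1, 2, 3, 2, 1, 2, 0, 1, 2, 3, 2, 1, 2, 0, 1, 2, 0, 1, 0]),
  ([33, 13, 22, 23], [3, 2, 1, 2, 0, 1, 2, 3, 2, 1, 2, 0, 1, 2, 3, 2, 1, 2, 0, 1, 2, 0, 1]),
  ([13, 27, 19, 23], [3, 2, 1, 2, 0, 1, 2, 3, 2, 1, 2, 0, 1, 2, 3, 2, 1, 2, 0, 1, 2, 1, 0]),
  ([14, 17, 25, 21], [3, 2, 1, 2, 0, 1, 2, 3, 2, 1, 2, 0, 1, 2, 3, 1, 2, 0, 1, 2, 0, 1, 0]),
  ([14, 20, 21, 24], [2, 1, 2, 0, 1, 2, 3, 2, 1, 2, 0, 1, 2, 3, 2, 1, 2, 0, 1, 2, 0, 1, 0]),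
  ([33, 10, 25, 21], [3, 2, 1, 2, 0, 1, 2, 3, 2, 1, 2, 0, 1, 2, 3, 1, 2, 0, 1, 2, 0, 1]),
  ([33, 13, 21, 24], [2, 1, 2, 0, 1, 2, 3, 2, 1, 2, 0, 1, 2, 3, 2, 1, 2, 0, 1, 2, 0, 1]),
  ([13, 27, 18, 24], [2, 1, 2, 0, 1, 2, 3, 2, 1, 2, 0, 1, 2, 3, 2, 1, 2, 0, 1, 2, 1, 0]),
  ([7, 27, 25, 16], [3, 2, 1, 2, 0, 1, 2, 3, 2, 1, 2, 0, 1, 2, 3, 0, 1, 2, 1, 0]),
  ([33, 27, 25, 4], [3, 2, 1, 2, 0, 1, 2, 3, 2, 1, 2, 0, 1, 2, 3]),
  ([1, 27, 25, 24], [0, 1, 2, 3, 1, 2, 0, 1, 2, 3, 0, 1, 2, 1, 0]),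
  ([33, 27, 25, 24], [])]

/-- final check -/
def fin (F : List ℕ) : Bool := dat.any fun d => decide (d.1 = F)

/-- the whole check -/
def chkAll : Bool :=
  (cand 0).all fun f0 => (cand 1).all fun f1 => !(ok2 0 1 f0 f1) || (cand 2).all fun f2 =>
    !(ok2 0 2 f0 f2 && ok2 1 2 f1 f2) || (cand 3).all fun f3 =>
      !(ok2 0 3 f0 f3 && (ok2 1 3 f1 f3 && ok2 2 3 f2 f3)) || (!(sqo [f0, f1, f2, f3]) || fin [f0, f1, f2, f3])

set_option maxRecDepth 100000 in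
theorem chk_all : chkAll = true := by decide +kernel

/-- the reflections on the indices -/
def rf (i : Fin 4) (r : ℕ) : ℕ :=
  rts.findIdx fun l => decide (l = (List.range 4).map fun j => cf r j - (if j = i.val then
    ((AA.getD i.val []).getD 0 0 * cf r 0 + (AA.getD i.val []).getD 1 0 * cf r 1 +
      (AA.getD i.val []).getD 2 0 * cf r 2 + (AA.getD i.val []).getD 3 0 * cf r 3) else 0))

theorem chk_rf : ((List.finRange 4).all fun i => (List.range 48).all fun r => decide (rf i r < 48 ∧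
    ∀ j : Fin 4, cf (rf i r) j.val = cf r j.val - (if j = i then
      ((AA.getD i.val []).getD 0 0 * cf r 0 + (AA.getD i.val []).getD 1 0 * cf r 1 +
      (AA.getD i.val []).getD 2 0 * cf r 2 + (AA.getD i.val []).getD 3 0 * cf r 3) else 0))) = true := by decide +kernel

theorem chk_word : (dat.all fun d => (List.finRange 4).all fun i =>
    decide (d.2.foldr rf (sm i.val) = d.1.getD i.val 0)) = true := by decide +kernel

theorem chk_cds : ((List.range 48).all fun r =>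
    decide (cds.getD r 0 = cf r 0 + 32 * cf r 1 + 1024 * cf r 2 + 32768 * cf r 3)) = true := by decide +kernel

theorem chk_neg : ((List.range 48).all fun r =>
    decide ((cf r 0 ≤ 0 ∧ cf r 1 ≤ 0 ∧ cf r 2 ≤ 0 ∧ cf r 3 ≤ 0) → r < 24)) = true := by decide +kernel

theorem chk_sum : ((List.range 48).all fun f => (List.range 48).all fun g => !(isR (cds.getD f 0 + cds.getD g 0)) ||
    (fun s => decide (s < 48 ∧ cf s 0 = cf f 0 + cf g 0 ∧ cf s 1 = cf f 1 + cf g 1 ∧ cf s 2 = cf f 2 + cf g 2 ∧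
      cf s 3 = cf f 3 + cf g 3)) (ix (cds.getD f 0 + cds.getD g 0))) = true := by decide +kernel

theorem chk_dif : ((List.range 4).all fun i => (List.range 4).all fun j =>
    !(isR (cds.getD (sm i) 0 - cds.getD (sm j) 0))) = true := by decide +kernel

theorem chk_neg2 : ((List.range 48).all fun r => decide (47 - r < 48) &&
    (List.range 48).any fun s => decide (cf s 0 = - cf r 0 ∧ cf s 1 = - cf r 1 ∧ cf s 2 = - cf r 2 ∧ cf s 3 = - cf r 3)) =
      true := by decide +kernel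

theorem chk_inj : ((List.range 48).all fun r => (List.range 4).all fun i => !(decide (cds.getD r 0 = cds.getD (sm i) 0)) ||
    decide (r = sm i)) = true := by decide +kernel

end Cfsg.Agent.H378.F4W
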