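import Mathlib
import Cfsg.Agent.H378.Spr.F4W

/-!
# The involutions of the Weyl group of `F₄` moving no fundamental root to another positive root: theorem (helper378)
-/

set_option autoImplicit false

namespace Cfsg.Agent.H378.F4W

open CoxeterSystem Cfsg.Agent.ChevalleyStructure.CoxeterGeom Cfsg.Agent.Tits.Roots Cfsg.Agent.Nodes.Reps
open Cfsg.Agent.Nodes.RGDTwE6 (isCartan A)

/-- the root with index `r` -/
def rv (r : ℕ) : Fin 4 → ℤ := fun j => cf r j.val

/-- the code of a vector -/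
def cdv (x : Fin 4 → ℤ) : ℤ := x 0 + 32 * x 1 + 1024 * x 2 + 32768 * x 3

theorem cdv_add (x y : Fin 4 → ℤ) : cdv (x + y) = cdv x + cdv y := by
  unfold cdv
  simp only [Pi.add_apply]
  ring

theorem cdv_sub (x y : Fin 4 → ℤ) : cdv (x - y) = cdv x - cdv y := by
  unfold cdv
  simp only [Pi.sub_apply]
  ring

theorem cdv_smul (c : ℤ) (x : Fin 4 → ℤ) : cdv (c • x) = c * cdv x := by
  unfold cdv
  simp only [Pi.smul_apply, smul_eq_mul]
  ring

theorem cdv_rv {r : ℕ} (hr : r < 48) : cdv (rv r) = cds.getD r 0 :=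
  (of_decide_eq_true (List.all_eq_true.1 chk_cds r (List.mem_range.2 hr))).symm

theorem cds_len : cds.length = 48 := by decide +kernel

theorem getD_mem {r : ℕ} (hr : r < 48) : cds.getD r 0 ∈ cds := by
  rw [List.getD_eq_getElem _ _ (by rw [cds_len]; exact hr)]
  exact List.getElem_mem _

theorem isR_iff (z : ℤ) : isR z = true ↔ z ∈ cds := by
  unfold isR
  rw [List.any_eq_true]
  constructor
  · rintro ⟨c, hc, h⟩
    rw [← of_decide_eq_true h]
    exact hc
  · intro h
    exact ⟨z, h, decide_eq_true rfl⟩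

theorem sm_lt (i : Fin 4) : sm i < 48 := by
  revert i
  decide +kernel

theorem rv_sm (i : Fin 4) : rv (sm i) = sr i := by
  funext j
  revert i j
  decide +kernel

theorem AA_eq (i j : Fin 4) : (AA.getD i.val []).getD j.val 0 = A i j := by
  revert i j
  decide +kernel

theorem pairing_eq (i : Fin 4) (x : Fin 4 → ℤ) : pairing A i x = (AA.getD i.val []).getD 0 0 * x 0 +
    (AA.getD i.val []).getD 1 0 * x 1 + (AA.getD i.val []).getD 2 0 * x 2 + (AA.getD i.val []).getD 3 0 * x 3 := by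
  have h0 := AA_eq i 0
  have h1 := AA_eq i 1
  have h2 := AA_eq i 2
  have h3 := AA_eq i 3
  unfold pairing
  rw [Fin.sum_univ_four, ← h0, ← h1, ← h2, ← h3]
  rfl

/-- words reaching the roots -/
def rch : List (Fin 4 × List (Fin 4)) := [(0, [0, 1, 2, 3, 1, 2, 1, 0]), (0, [1, 2, 3, 1, 2, 1, 0]), (0, [2, 3, 1, 2, 1, 0]), (2, [3, 2, 1, 2, 3, 0, 1, 2]), (2, [2, 1, 2, 3, 0, 1, 2]), (0, [3, 1, 2, 1, 0]), (2, [1, 2, 3, 0, 1, 2]), (0, [1, 2, 1, 0]), (0, [3, 2, 1, 0]), (2, [2, 3, 0, 1, 2]), (0, [2, 1, 0]), (2, [3, 0, 1, 2]), (2, [0, 1, 2]), (0, [1, 0]), (0, [0]), (1, [3, 2, 1]), (2, [2, 3, 1, 2]), (1, [2, 1]), (2, [3, 1, 2]), (2, [1, 2]), (1, [1]), (2, [3, 2]), (2, [2]), (3, [3]), (3, []), (2, []), (2, [3]), (1, []), (2, [1]), (2, [3, 1]), (1, [2]), (2, [2, 3, 1]), (1, [3, 2]), (0, []), (0, [1]), (2, [0, 1]), (2, [3, 0, 1]), (0, [2, 1]), (2, [2, 3, 0, 1]), (0, [3, 2, 1]), (0, [1, 2, 1]), (2, [1, 2, 3, 0, 1]), (0, [3, 1, 2, 1]), (2, [2, 1, 2, 3, 0, 1]), (2,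 [3, 2, 1, 2, 3, 0, 1]), (0, [2, 3, 1, 2, 1]), (0, [1, 2, 3, 1, 2, 1]), (0, [0, 1, 2, 3, 1, 2, 1])]

theorem chk_reach : ((List.range 48).all fun r => rch.any fun e => decide (e.2.foldr rf (sm e.1.val) = r)) = true := by
  decide +kernel

section

variable {W : Type*} [Group W] (cs : CoxeterSystem CoxeterMatrix.F₄ W)

theorem rep_rv (i : Fin 4) {r : ℕ} (hr : r < 48) :
    rf i r < 48 ∧ rep cs isCartan (cs.simple i) (rv r) = rv (rf i r) := by
  have h := of_decide_eq_true (List.all_eq_true.1 (List.all_eq_true.1 chk_rf i (List.mem_finRange i)) r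
    (List.mem_range.2 hr))
  refine ⟨h.1, ?_⟩
  rw [rep_simple_eq, pairing_eq]
  funext j
  show rv r j - _ * (sr i : Fin 4 → ℤ) j = cf (rf i r) j.val
  rw [h.2 j]
  show cf r j.val - _ = _
  congr 1
  by_cases hj : j = i
  · subst hj
    rw [sr_self, if_pos rfl, mul_one]
    rfl
  · rw [sr_ne hj, if_neg hj, mul_zero]

theorem rep_word (ω : List (Fin 4)) {r : ℕ} (hr : r < 48) :
    ω.foldr rf r < 48 ∧ rep cs isCartan (cs.wordProd ω) (rv r) = rv (ω.foldr rf r) := by
  induction ω with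
  | nil =>
    rw [wordProd_nil, map_one, Module.End.one_apply]
    exact ⟨hr, rfl⟩
  | cons i ω ih =>
    rw [wordProd_cons, rep_mul_apply, ih.2, List.foldr_cons]
    exact rep_rv cs i ih.1

theorem root_iff (x : Fin 4 → ℤ) : IsRoot cs isCartan x ↔ ∃ r < 48, rv r = x := by
  constructor
  · rintro ⟨w, i, rfl⟩
    obtain ⟨ω, rfl⟩ := cs.wordProd_surjective w
    have h := rep_word cs ω (sm_lt i)
    rw [rv_sm] at h
    exact ⟨_, h.1, h.2.symm⟩
  · rintro ⟨r, hr, rfl⟩
    have h1 := List.all_eq_true.1 chk_reach r (List.mem_range.2 hr)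
    obtain ⟨e, he, h2⟩ := List.any_eq_true.1 h1
    have h3 := of_decide_eq_true h2
    have h4 := rep_word cs e.2 (sm_lt e.1)
    rw [h3] at h4
    rw [← h4.2, rv_sm]
    exact (isRoot_sr cs isCartan _).act _

theorem isR_of_root {x : Fin 4 → ℤ} (hx : IsRoot cs isCartan x) : isR (cdv x) = true := by
  obtain ⟨r, hr, rfl⟩ := (root_iff cs x).1 hx
  rw [isR_iff, cdv_rv hr]
  exact getD_mem hr

theorem rv_sum {f g : ℕ} (hf : f < 48) (hg : g < 48) (h : isR (cds.getD f 0 + cds.getD g 0) = true) :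
    ∃ s < 48, rv s = rv f + rv g := by
  have h1 := List.all_eq_true.1 (List.all_eq_true.1 chk_sum f (List.mem_range.2 hf)) g (List.mem_range.2 hg)
  rw [h, Bool.not_true, Bool.false_or] at h1
  have h2 := of_decide_eq_true h1
  refine ⟨_, h2.1, ?_⟩
  funext j
  obtain ⟨-, a0, a1, a2, a3⟩ := h2
  fin_cases j
  · exact a0
  · exact a1
  · exact a2
  · exact a3

theorem root_of_isR {f g : ℕ} (hf : f < 48) (hg : g < 48) (h : isR (cdv (rv f + rv g)) = true) :
    IsRoot cs isCartan (rv f + rv g) := by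
  rw [cdv_add, cdv_rv hf, cdv_rv hg] at h
  obtain ⟨s, hs, e⟩ := rv_sum hf hg h
  rw [← e]
  exact (root_iff cs _).2 ⟨s, hs, rfl⟩

theorem exists_neg {g : ℕ} (hg : g < 48) : ∃ s < 48, rv s = - rv g := by
  have h1 := List.all_eq_true.1 chk_neg2 g (List.mem_range.2 hg)
  rw [Bool.and_eq_true] at h1
  obtain ⟨s, hs, h2⟩ := List.any_eq_true.1 h1.2
  obtain ⟨a0, a1, a2, a3⟩ := of_decide_eq_true h2
  refine ⟨s, List.mem_range.1 hs, ?_⟩
  funext j
  fin_cases j
  · exact a0
  · exact a1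
  · exact a2
  · exact a3

variable {w : W} {f : Fin 4 → ℕ} (hf : ∀ i, f i < 48) (hv : ∀ i, rv (f i) = rep cs isCartan w (sr i))

include hf hv

theorem cds_f (i : Fin 4) : cds.getD (f i) 0 = cdv (rep cs isCartan w (sr i)) := by
  rw [← hv, cdv_rv (hf i)]

omit hf hv in
theorem cds_s (i : Fin 4) : cds.getD (sm i) 0 = cdv (sr i) := by
  rw [← cdv_rv (sm_lt i), rv_sm]

theorem ok2_of (i j : Fin 4) : ok2 i j (f i) (f j) = true := by
  unfold ok2
  rw [cds_f cs hf hv i, cds_f cs hf hv j, cds_s i, cds_s j, ← cdv_add, ← cdv_add, ← cdv_sub, ← map_add, ← map_sub,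
    Bool.and_eq_true]
  constructor
  · have h1 : isR (cdv (rep cs isCartan w (sr i + sr j))) = true ↔ isR (cdv (sr i + sr j : Fin 4 → ℤ)) = true := by
      constructor
      · intro h
        rw [map_add, ← hv, ← hv] at h
        have h2 := root_of_isR cs (hf i) (hf j) h
        rw [hv, hv, ← map_add] at h2
        have h3 := h2.act w⁻¹
        rw [rep_inv_apply] at h3
        exact isR_of_root cs h3
      · intro h
        rw [← rv_sm i, ← rv_sm j] at h
        have h2 := root_of_isR cs (sm_lt i) (sm_lt j) h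
        rw [rv_sm i, rv_sm j] at h2
        exact isR_of_root cs (h2.act w)
    rw [beq_iff_eq]
    rcases hA : isR (cdv (rep cs isCartan w (sr i + sr j))) with _ | _ <;>
      rcases hB : isR (cdv (sr i + sr j : Fin 4 → ℤ)) with _ | _
    · rfl
    · rw [hA, hB] at h1; simp at h1
    · rw [hA, hB] at h1; simp at h1
    · rfl
  · rw [Bool.not_eq_true']
    by_contra h
    rw [Bool.not_eq_false] at h
    obtain ⟨s, hs, es⟩ := exists_neg (hf j)
    have e0 : rep cs isCartan w (sr i - sr j) = rv (f i) + rv s := by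
      rw [es, map_sub, hv, hv, sub_eq_add_neg]
    rw [e0] at h
    have h2 := root_of_isR cs (hf i) hs h
    rw [← e0] at h2
    have h3 := h2.act w⁻¹
    rw [rep_inv_apply] at h3
    have h4 := isR_of_root cs h3
    have h5 := List.all_eq_true.1 (List.all_eq_true.1 chk_dif i.val (List.mem_range.2 i.2)) j.val (List.mem_range.2 j.2)
    rw [cds_s i, cds_s j, ← cdv_sub, h4] at h5
    simp at h5

/-- the list of the images -/
theorem img_eq (r : ℕ) : img [f 0, f 1, f 2, f 3] r = cdv (rep cs isCartan w (rv r)) := by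
  have e : rv r = (rv r 0) • sr 0 + (rv r 1) • sr 1 + (rv r 2) • sr 2 + (rv r 3) • sr 3 := by
    funext j
    fin_cases j <;> simp [sr]
  rw [e, map_add, map_add, map_add, map_smul, map_smul, map_smul, map_smul, cdv_add, cdv_add, cdv_add, cdv_smul,
    cdv_smul, cdv_smul, cdv_smul, ← cds_f cs hf hv 0, ← cds_f cs hf hv 1, ← cds_f cs hf hv 2, ← cds_f cs hf hv 3]
  rfl

theorem sqo_of (hw : w * w = 1) : sqo [f 0, f 1, f 2, f 3] = true := by
  unfold sqo
  rw [Bool.and_eq_true]
  constructor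
  · rw [List.all_eq_true]
    intro i hi
    have hi4 := List.mem_range.1 hi
    apply decide_eq_true
    have key : ∀ j : Fin 4, img [f 0, f 1, f 2, f 3] (f j) = cds.getD (sm j) 0 := by
      intro j
      rw [img_eq cs hf hv, hv, ← rep_mul_apply, hw, map_one, Module.End.one_apply, cds_s]
    interval_cases i
    · exact key 0
    · exact key 1
    · exact key 2
    · exact key 3
  · rw [List.all_eq_true]
    intro r hr
    rw [img_eq cs hf hv]
    exact isR_of_root cs (((root_iff cs _).2 ⟨r, List.mem_range.1 hr, rfl⟩).act w)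

theorem cand_of (hP : ∀ i, rep cs isCartan w (sr i) = sr i ∨ rep cs isCartan w (sr i) ≤ 0) (i : Fin 4) :
    f i ∈ cand i := by
  unfold cand
  rw [List.mem_cons]
  rcases hP i with h | h
  · left
    have h1 : cds.getD (f i) 0 = cds.getD (sm i) 0 := by rw [cds_f cs hf hv, h, cds_s]
    have h2 := List.all_eq_true.1 (List.all_eq_true.1 chk_inj (f i) (List.mem_range.2 (hf i))) i.val
      (List.mem_range.2 i.2)
    rw [decide_eq_true h1, Bool.not_true, Bool.false_or] at h2
    exact of_decide_eq_true h2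
  · right
    rw [← hv] at h
    rw [List.mem_range]
    exact of_decide_eq_true (List.all_eq_true.1 chk_neg (f i) (List.mem_range.2 (hf i))) ⟨h 0, h 1, h 2, h 3⟩

/-- **the finite check** -/
theorem fin_of (hw : w * w = 1) (hP : ∀ i, rep cs isCartan w (sr i) = sr i ∨ rep cs isCartan w (sr i) ≤ 0) :
    fin [f 0, f 1, f 2, f 3] = true := by
  have c := chk_all
  unfold chkAll at c
  have c0 := List.all_eq_true.1 c (f 0) (cand_of cs hf hv hP 0)
  have c1 := List.all_eq_true.1 c0 (f 1) (cand_of cs hf hv hP 1)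
  have o01 : ok2 0 1 (f 0) (f 1) = true := ok2_of cs hf hv 0 1
  have o02 : ok2 0 2 (f 0) (f 2) = true := ok2_of cs hf hv 0 2
  have o12 : ok2 1 2 (f 1) (f 2) = true := ok2_of cs hf hv 1 2
  have o03 : ok2 0 3 (f 0) (f 3) = true := ok2_of cs hf hv 0 3
  have o13 : ok2 1 3 (f 1) (f 3) = true := ok2_of cs hf hv 1 3
  have o23 : ok2 2 3 (f 2) (f 3) = true := ok2_of cs hf hv 2 3
  rw [o01, Bool.not_true, Bool.false_or] at c1
  have c2 := List.all_eq_true.1 c1 (f 2) (cand_of cs hf hv hP 2)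
  rw [o02, o12, Bool.and_true, Bool.not_true, Bool.false_or] at c2
  have c3 := List.all_eq_true.1 c2 (f 3) (cand_of cs hf hv hP 3)
  rw [o03, o13, o23, Bool.and_true, Bool.and_true, Bool.not_true, Bool.false_or, sqo_of cs hf hv hw, Bool.not_true,
    Bool.false_or] at c3
  exact c3

omit hf hv in
/-- **The twelve involutions.** -/
theorem exists_word (hw : w * w = 1)
    (hP : ∀ i, rep cs isCartan w (sr i) = sr i ∨ rep cs isCartan w (sr i) ≤ 0) :
    ∃ d ∈ dat, w = cs.wordProd d.2 := by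
  have hex : ∀ i : Fin 4, ∃ r : ℕ, r < 48 ∧ rv r = rep cs isCartan w (sr i) := fun i =>
    (root_iff cs _).1 ((isRoot_sr cs isCartan i).act w)
  choose f hf hv using hex
  have h1 := fin_of cs hf hv hw hP
  unfold fin at h1
  obtain ⟨d, hd, h2⟩ := List.any_eq_true.1 h1
  have h3 := of_decide_eq_true h2
  refine ⟨d, hd, ?_⟩
  have h4 : ∀ i : Fin 4, rep cs isCartan (cs.wordProd d.2) (sr i) = rep cs isCartan w (sr i) := by
    intro i
    have h5 := of_decide_eq_true (List.all_eq_true.1 (List.all_eq_true.1 chk_word d hd) i (List.mem_finRange i))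
    have h6 := (rep_word cs d.2 (sm_lt i)).2
    rw [rv_sm] at h6
    rw [h6, h5, ← hv, h3]
    fin_cases i <;> rfl
  have h5 : w⁻¹ * cs.wordProd d.2 = 1 := by
    refine eq_one_of_fix cs isCartan _ fun i => ?_
    show rep cs isCartan (w⁻¹ * cs.wordProd d.2) (sr i) = sr i
    rw [rep_mul_apply, h4, rep_inv_apply]
  exact inv_mul_eq_one.1 h5

end

end Cfsg.Agent.H378.F4W
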