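import Mathlib
import Cfsg.Agent.H378.Spr.InvN
import Cfsg.Agent.H378.Spr.F4Dat
import Cfsg.Agent.BpExc.RowsUntw
import Cfsg.Agent.Nodes.RGDChev

/-!
# The involutions of `F₄(2)` : the finite check (helper378)

For every involution `a` of `F₄(2)` there is an `x` such that every `a`-invariant subgroup over `x` has order divisible by
`13` and `17`.
-/

set_option autoImplicit false

namespace Cfsg.Agent.H378.F4two

open Cfsg Cfsg.Lie Cfsg.Agent.ChevalleyStructure Cfsg.Agent.ChevalleyStructure.Columns CoxeterSystem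
  Cfsg.Agent.ChevalleyStructure.Elts Cfsg.Agent.ChevalleyStructure.RootVec Cfsg.Agent.ChevalleyStructure.CoxeterGeom
  Cfsg.Agent.Tits.Roots Cfsg.Agent.Nodes.Reps Cfsg.Agent.Nodes.RGDChev Cfsg.Agent.H378.MVec Cfsg.Agent.H378.F4Dat
  Cfsg.Agent.BpExc.RowsUntw

/-! ### The finite check -/

/-- the codes of the roots -/
def cds : List ℤ := [-68738, -35970, -34946, -34914, -34882, -33858, -1090, -34913, -34881, -33857, -1089, -33825, -1057, -33, -1, -34880, -33856, -1088, -33824, -1056, -32, -33792, -1024, -32768, 32768, 1024, 33792, 32, 1056, 33824, 1088, 33856, 34880, 1, 33, 1057, 33825, 1089, 33857, 34881, 34913, 1090, 33858, 34882, 34914, 34946, 35970, 68738]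

/-- is it the code of a root -/
def isR (z : ℤ) : Bool := cds.any fun c => decide (c = z)

/-- coefficient -/
def cf (r j : ℕ) : ℤ := rt chevF4 r j

/-- the code of the image of the root `r` under the map `αᵢ ↦ F i` -/
def img (F : List ℕ) (r : ℕ) : ℤ :=
  cf r 0 * cds.getD (F.getD 0 0) 0 + cf r 1 * cds.getD (F.getD 1 0) 0 + cf r 2 * cds.getD (F.getD 2 0) 0 +
    cf r 3 * cds.getD (F.getD 3 0) 0

/-- the index of the root with the code `z` -/
def ix (z : ℤ) : ℕ := cds.findIdx fun c => decide (c = z)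

/-- candidates -/
def cand (i : ℕ) : List ℕ := chevF4.simple i :: List.range 24

/-- necessary condition for a pair -/
def ok2 (i j f g : ℕ) : Bool :=
  (isR (cds.getD f 0 + cds.getD g 0) == isR (cds.getD (chevF4.simple i) 0 + cds.getD (chevF4.simple j) 0)) &&
    !(isR (cds.getD f 0 - cds.getD g 0))

/-- the square is trivial, the roots go to roots -/
def sqo (F : List ℕ) : Bool := ((List.range 4).all fun i =>
  decide (img F (F.getD i 0) = cds.getD (chevF4.simple i) 0)) && (List.range 48).all fun r => isR (img F r)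

/-- words and coordinates -/
def dat : List (List ℕ × List (ℕ × ℕ) × ℕ × ℕ) := [
  ([33, 27, 25, 1], [(23, 1), (34, 1), (43, 1), (47, 1), (20, 1), (6, 1)], 38, 48),
  ([33, 12, 25, 21], [(26, 1), (0, 1), (33, 1), (27, 1), (40, 1), (30, 1)], 44, 42),
  ([33, 13, 21, 24], [(39, 1), (30, 1), (2, 1), (0, 1), (10, 1), (34, 1)], 38, 41),
  ([33, 13, 22, 23], [(6, 1), (40, 1), (14, 1), (15, 1), (18, 1), (43, 1)], 44, 44),
  ([7, 27, 25, 24], [(42, 1), (6, 1), (40, 1), (21, 1), (43, 1), (3, 1)], 44, 44),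
  ([10, 27, 25, 15], [(25, 1), (9, 1), (42, 1), (4, 1), (40, 1), (1, 1)], 44, 44),
  ([13, 27, 16, 24], [(36, 1), (41, 1), (8, 1), (2, 1), (37, 1), (40, 1)], 48, 44),
  ([13, 27, 17, 23], [(6, 1), (40, 1), (14, 1), (15, 1), (18, 1), (43, 1)], 44, 48),
  ([14, 19, 25, 21], [(11, 1), (44, 1), (4, 1), (22, 1), (20, 1), (47, 1)], 48, 43),
  ([14, 20, 21, 24], [(11, 1), (44, 1), (4, 1), (22, 1), (20, 1), (47, 1)], 48, 40),
  ([14, 20, 22, 23], [(11, 1), (44, 1), (4, 1), (22, 1), (20, 1), (47, 1)], 48, 43)]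

/-- the image of a word -/
def mp (F : List ℕ) (w : List (ℕ × ℕ)) : List (ℕ × ℕ) := w.map fun e => (ix (img F e.1), 1)

/-- final check -/
def fin (F : List ℕ) : Bool :=
  decide (F = [33, 27, 25, 24]) ||
    dat.any fun d => decide (d.1 = F) && (chk tab 52 17 d.2.1 (1, 0) d.2.2.1 &&
      (chk tab 52 13 (mp F d.2.1 ++ d.2.1) (1, 0) d.2.2.2 && d.2.1.all fun e => decide (e.1 < 48 ∧ e.2 = 1)))

/-- the whole check -/
def chkAll : Bool :=
  (cand 0).all fun f0 => (cand 1).all fun f1 => !(ok2 0 1 f0 f1) || (cand 2).all fun f2 =>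
    !(ok2 0 2 f0 f2 && ok2 1 2 f1 f2) || (cand 3).all fun f3 =>
      !(ok2 0 3 f0 f3 && (ok2 1 3 f1 f3 && ok2 2 3 f2 f3)) || (!(sqo [f0, f1, f2, f3]) || fin [f0, f1, f2, f3])

set_option maxRecDepth 100000 in
theorem chk_all : chkAll = true := by decide +kernel

end Cfsg.Agent.H378.F4two
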